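import Cfsg.Agent.H226.Tall.Defs
import Cfsg.Agent.UGT.End.PSLTwoFacts
import Cfsg.Agent.SuzukiRankOne.SzModel
import Cfsg.Agent.SuzukiRankOne.PSUModel
import Cfsg.Agent.LieRecognition.RankOneBasic
import Cfsg.Agent.S1119

/-!
# S2927, [LR1]: the groups of rank one in characteristic two (helper188)

`Embeds K` : `N_K(R) ≤ N_K(S)` for every nontrivial subgroup `R` of a Sylow 2-subgroup `S`. It holds for
`PSL₂(2^k)`, `PSU₃(2^k)`, `Sz(2^(2k+1))` (`embeds_psl`, `embeds_psu`, `embeds_sz`), and it excludes `Loc`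
(`Embeds.loc_false`). All three together: `loc_false`.
-/

set_option autoImplicit false

namespace Cfsg.Agent.H188.Tall.RankOne

open Subgroup MulAction Cfsg Cfsg.Agent.LieRecognition Cfsg.Agent.LieRecognition.RankOneBasic
open Cfsg.Agent.H226.Tall

/-- The normaliser of a nontrivial subgroup of a Sylow 2-subgroup `S` normalises `S`. -/
def Embeds (K : Type*) [Group K] : Prop :=
  ∀ (S : Sylow 2 K) (R : Subgroup K), R ≠ ⊥ → R ≤ (S : Subgroup K) →
    normalizer (R : Set K) ≤ normalizer ((S : Subgroup K) : Set K)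

theorem Embeds.loc_false {K : Type*} [Group K] (h : Embeds K) {S₁ : Sylow 2 K} {P V : Subgroup (MulAut K)}
    (hL : Loc S₁ P V) : False := by
  obtain ⟨R, hR, hRS, -, hn⟩ := hL.loc
  exact hn (h S₁ R hR hRS)

/-- `Embeds` is invariant under isomorphisms -/
theorem Embeds.congr {K X : Type*} [Group K] [Group X] [Finite K] (h : Embeds X) (e : K ≃* X) : Embeds K := by
  have : Fact (Nat.Prime 2) := ⟨Nat.prime_two⟩
  intro S R hR hRS k hk
  have hT : ((S.mapSurjective (f := e.toMonoidHom) e.surjective : Sylow 2 X) : Subgroup X) =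
      (S : Subgroup K).map e.toMonoidHom := Sylow.coe_mapSurjective _ S
  have h1 := h (S.mapSurjective (f := e.toMonoidHom) e.surjective) (R.map e.toMonoidHom)
    (fun h0 => hR ((Subgroup.map_eq_bot_iff_of_injective R e.injective).mp h0))
    (by rw [hT]; exact Subgroup.map_mono hRS)
  have h2 : e k ∈ normalizer ((R.map e.toMonoidHom : Subgroup X) : Set X) := by
    rw [Subgroup.mem_normalizer_iff]
    intro x
    obtain ⟨y, rfl⟩ := e.surjective x
    have h3 := Subgroup.mem_normalizer_iff.mp hk y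
    have h4 : e k * e y * (e k)⁻¹ = e (k * y * k⁻¹) := by simp
    rw [h4]
    constructor
    · rintro ⟨z, hz, hzy⟩
      have : z = y := e.injective hzy
      subst this
      exact ⟨_, h3.mp hz, rfl⟩
    · rintro ⟨z, hz, hzy⟩
      have : z = k * y * k⁻¹ := e.injective hzy
      subst this
      exact ⟨_, h3.mpr hz, rfl⟩
  have h5 := h1 h2
  rw [hT] at h5
  rw [Subgroup.mem_normalizer_iff]
  intro y
  have h3 := Subgroup.mem_normalizer_iff.mp h5 (e y)
  have h4 : e k * e y * (e k)⁻¹ = e (k * y * k⁻¹) := by simp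
  rw [h4] at h3
  constructor
  · intro hy
    obtain ⟨z, hz, hzy⟩ := h3.mp ⟨y, hy, rfl⟩
    have : z = k * y * k⁻¹ := e.injective hzy
    rwa [this] at hz
  · intro hy
    obtain ⟨z, hz, hzy⟩ := h3.mpr ⟨_, hy, rfl⟩
    have : z = y := e.injective hzy
    rwa [this] at hz

section Setup

variable {G Ω : Type*} [Group G] [MulAction G Ω] {a : Ω} {t : G} {Q : Subgroup G}

/-- Conjugate set-ups. -/
theorem setup_conj (hS : IsRankOneSetup G Ω a t Q) (g : G) :
    IsRankOneSetup G Ω (g • a) (g * t * g⁻¹) (Q.map (MulAut.conj g).toMonoidHom) := by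
  have hinj : Function.Injective (MulAut.conj g).toMonoidHom := (MulAut.conj g).injective
  have h1 : stabilizer G (g • a) = (stabilizer G a).map (MulAut.conj g).toMonoidHom :=
    stabilizer_smul_eq_stabilizer_map_conj g a
  have h2 : stabilizer G ((g * t * g⁻¹) • g • a) =
      (stabilizer G (t • a)).map (MulAut.conj g).toMonoidHom := by
    rw [← stabilizer_smul_eq_stabilizer_map_conj g (t • a)]
    congr 1
    rw [mul_smul, mul_smul, inv_smul_smul]
  refine ⟨hS.two_transitive, ?_, ?_, ?_, ?_, ?_, ?_, ?_, ?_, ?_⟩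
  · have : g * t * g⁻¹ * (g * t * g⁻¹) = g * (t * t) * g⁻¹ := by group
    rw [this, hS.mul_self]; group
  · intro h
    apply hS.ne_one
    have h3 := congrArg (fun z => g⁻¹ * z * g) h
    simpa [mul_assoc] using h3
  · intro h
    apply hS.not_mem
    rw [mem_stabilizer_iff, mul_smul, mul_smul, inv_smul_smul] at h
    exact smul_left_cancel g h
  · rw [h1]; exact Subgroup.map_mono hS.le
  · rw [h1]
    rintro _ ⟨h, hh, rfl⟩ _ ⟨x, hx, rfl⟩
    exact ⟨h * x * h⁻¹, hS.conj_mem h hh x hx, by simp [mul_assoc]⟩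
  · rw [h2, ← Subgroup.map_inf_eq _ _ _ hinj, hS.inf_eq_bot, Subgroup.map_bot]
  · rw [h1, h2, ← Subgroup.map_inf_eq _ _ _ hinj, ← Subgroup.map_sup, hS.sup_eq]
  · rw [Subgroup.card_map_of_injective hinj]; exact hS.even_card
  · rw [h1, h2, ← Subgroup.map_inf_eq _ _ _ hinj, Subgroup.card_map_of_injective hinj]
    exact hS.odd_card

/-- Every Sylow 2-subgroup is the `Q` of a set-up if `Q` is a 2-group. -/
theorem exists_setup [Finite G] (hS : IsRankOneSetup G Ω a t Q) (hQ : IsPGroup 2 Q)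
    (S : Sylow 2 G) : ∃ (b : Ω) (u : G), IsRankOneSetup G Ω b u (S : Subgroup G) := by
  have : Fact (Nat.Prime 2) := ⟨Nat.prime_two⟩
  have hodd : Odd Q.index := by
    obtain ⟨-, -, -, ⟨P, hP⟩, -⟩ := Cfsg.Agent.S1119.result hS
    have h1 : Q.index ∣ (P : Subgroup G).index := Subgroup.index_dvd_of_le hP
    have h2 : ¬ 2 ∣ (P : Subgroup G).index := P.not_dvd_index
    rw [← Nat.not_even_iff_odd, even_iff_two_dvd]
    exact fun h => h2 (h.trans h1)
  have hidx : ¬ 2 ∣ Q.index := fun h =>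
    Nat.not_even_iff_odd.mpr hodd (even_iff_two_dvd.mpr h)
  obtain ⟨g, hg⟩ := MulAction.exists_smul_eq G (hQ.toSylow hidx) S
  have h5 : (S : Subgroup G) = Q.map (MulAut.conj g).toMonoidHom := by
    rw [← hg]; rfl
  rw [h5]
  exact ⟨_, _, setup_conj hS g⟩

theorem embeds [Finite G] (hS : IsRankOneSetup G Ω a t Q) (hQ : IsPGroup 2 Q) : Embeds G := by
  intro S R hR hRS g hg
  obtain ⟨b, u, hSb⟩ := exists_setup hS hQ S
  obtain ⟨⟨r, hr⟩, hr1⟩ := Subgroup.ne_bot_iff_exists_ne_one.mp hR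
  have hr1 : r ≠ 1 := fun h => hr1 (Subtype.ext h)
  apply stabilizer_le_normalizer hSb
  rw [mem_stabilizer_iff]
  by_contra hgb
  have h1 : g⁻¹ * r * g ∈ (S : Subgroup G) := by
    have h2 := (Subgroup.mem_normalizer_iff.mp (inv_mem hg) r).mp hr
    rw [inv_inv] at h2
    exact hRS h2
  have h2 : (g⁻¹ * r * g) • b = b := mem_stabilizer_iff.mp (hSb.le h1)
  have h3 : r • g • b = g • b := by
    rw [mul_smul, mul_smul, inv_smul_eq_iff] at h2
    exact h2
  exact hr1 (eq_one_of_smul_eq hSb (hRS hr) hgb h3)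

end Setup

theorem embeds_psl {K : Type*} [Group K] [Finite K] (F : Type*) [Field F] [Finite F] [CharP F 2]
    (h : Nonempty (K ≃* Matrix.ProjectiveSpecialLinearGroup (Fin 2) F)) : Embeds K := by
  obtain ⟨e⟩ := h
  obtain ⟨e2⟩ := Cfsg.Agent.UGT.End.PSLTwoFacts.exists_equiv (F := F)
  have hF := Cfsg.Agent.UGT.End.PSLTwoFacts.facts (F := F)
  refine Embeds.congr (embeds hF.base ?_) (e.trans e2)
  rintro ⟨x, hx⟩
  refine ⟨2, ?_⟩
  apply Subtype.ext
  have := hF.sq x hx
  show x ^ 2 ^ 2 = 1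
  rw [← this, show (2 : ℕ) ^ 2 = 4 from rfl, pow_succ, pow_succ, pow_succ, pow_one, mul_assoc (x * x)]

theorem embeds_sz {K : Type*} [Group K] [Finite K] (h : Lie.IsoSuzuki K) : Embeds K := by
  obtain ⟨F, iF, iFin, m, hm, hF, ⟨e⟩⟩ := h
  have H := Cfsg.Agent.LieRecognition.SzMatrix.good hF
  refine Embeds.congr (embeds (Cfsg.Agent.SuzukiRankOne.SzModel.setup H) ?_) e
  refine IsPGroup.of_card (n := (2 * m + 1) * 2) ?_
  rw [H.card_unip, Nat.card_eq_fintype_card, hF, ← pow_mul]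

theorem embeds_psu {K : Type*} [Group K] [Finite K] (F : Type*) [Field F] [Fintype F] [CharP F 2] (q : ℕ)
    (hF : Fintype.card F = q ^ 2) (h : Nonempty (K ≃* PSU 3 F q)) : Embeds K := by
  obtain ⟨e⟩ := h
  have : Fact (Nat.Prime 2) := ⟨Nat.prime_two⟩
  obtain ⟨n, hn, rfl⟩ : ∃ n : ℕ, 1 ≤ n ∧ q = 2 ^ n := by
    obtain ⟨m, -, hm⟩ := FiniteField.card F 2
    rw [hF] at hm
    have h1 : q ∣ 2 ^ (m : ℕ) := ⟨q, by rw [← hm, pow_two]⟩
    obtain ⟨n, -, hn⟩ := (Nat.dvd_prime_pow Nat.prime_two).mp h1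
    refine ⟨n, ?_, hn⟩
    by_contra h0
    have h2 : n = 0 := by omega
    rw [h2, pow_zero] at hn
    rw [hn, one_pow] at hm
    have h3 := Nat.one_lt_two_pow (n := (m : ℕ)) m.ne_zero
    omega
  have hF0 : Nat.card F = (2 ^ n) ^ 2 := by rw [Nat.card_eq_fintype_card, hF]
  have hσ : Fact (∀ x, iterateFrobenius F 2 n (iterateFrobenius F 2 n x) = x) := by
    refine ⟨fun x => ?_⟩
    rw [iterateFrobenius_def, iterateFrobenius_def, ← pow_mul, ← pow_two, ← hF, FiniteField.pow_card]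
  have hq : 1 < 2 ^ n := Nat.one_lt_two_pow (by omega)
  obtain ⟨H, S, w, ψ, hfaith, hsetup, -, -⟩ :=
    Cfsg.Agent.SuzukiRankOne.PSUModel.exists_model (σ := iterateFrobenius F 2 n) hn
      (fun x => iterateFrobenius_def 2 n x) hF0
  have hfin : Finite (PSU 3 F (2 ^ n)) := Finite.of_equiv _ e.toEquiv
  refine Embeds.congr (embeds hsetup ?_) e
  refine IsPGroup.of_card (n := n * 3) ?_
  rw [← Nat.card_congr ψ.toEquiv, Cfsg.Agent.LieRecognition.HermHeis.card_heis hq
    (fun x => iterateFrobenius_def 2 n x) hF0, ← pow_mul]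

/-- The groups of rank one in characteristic two. -/
def Fam (K : Type*) [Group K] : Prop :=
  (∃ (F : Type) (_ : Field F) (_ : Fintype F) (_ : CharP F 2),
      Nonempty (K ≃* Matrix.ProjectiveSpecialLinearGroup (Fin 2) F)) ∨
    (∃ (F : Type) (_ : Field F) (_ : Fintype F) (_ : CharP F 2) (q : ℕ), Fintype.card F = q ^ 2 ∧
      Nonempty (K ≃* PSU 3 F q)) ∨ Lie.IsoSuzuki K

theorem Fam.embeds {K : Type*} [Group K] [Finite K] (h : Fam K) : Embeds K := by
  rcases h with ⟨F, iF, iFin, iC, h⟩ | ⟨F, iF, iFin, iC, q, hF, h⟩ | h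
  · exact embeds_psl F h
  · exact embeds_psu F q hF h
  · exact embeds_sz h

/-- [LR1] -/
theorem loc_false {K : Type*} [Group K] [Finite K] (h : Fam K) {S₁ : Sylow 2 K} {P V : Subgroup (MulAut K)}
    (hL : Loc S₁ P V) : False :=
  h.embeds.loc_false hL

/-- `IsPSLChar 2` with `n = 2` -/
theorem loc_false_psl {K : Type*} [Group K] [Finite K] {F : Type*} [Field F] [Fintype F] [CharP F 2]
    (e : K ≃* Matrix.ProjectiveSpecialLinearGroup (Fin 2) F) {S₁ : Sylow 2 K} {P V : Subgroup (MulAut K)}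
    (hL : Loc S₁ P V) : False :=
  (embeds_psl F ⟨e⟩).loc_false hL

/-- `IsPSUChar 2` with `n = 3` -/
theorem loc_false_psu {K : Type*} [Group K] [Finite K] {F : Type*} [Field F] [Fintype F] [CharP F 2] {q : ℕ}
    (hF : Fintype.card F = q ^ 2) (e : K ≃* PSU 3 F q) {S₁ : Sylow 2 K} {P V : Subgroup (MulAut K)}
    (hL : Loc S₁ P V) : False :=
  (embeds_psu F q hF ⟨e⟩).loc_false hL

theorem loc_false_sz {K : Type*} [Group K] [Finite K] (h : Lie.IsoSuzuki K) {S₁ : Sylow 2 K}
    {P V : Subgroup (MulAut K)} (hL : Loc S₁ P V) : False :=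
  (embeds_sz h).loc_false hL

end Cfsg.Agent.H188.Tall.RankOne
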